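import Groth.Agent.Nakai.Section
import Groth.Agent.Lib.DivisorExt
import Groth.Agent.Lib.AVAmple
import Groth.Agent.ParShLib.ResStalk
import Groth.Agent.CohGenIso5.Main

/-!
# Powers of a divisor ample on itself are generated by global sections
-/

set_option autoImplicit false
set_option linter.style.haveILetI false
set_option linter.unusedSectionVars false
set_option backward.isDefEq.respectTransparency false
set_option backward.isDefEq.respectTransparency.types false
set_option maxHeartbeats 2000000
set_option synthInstance.maxHeartbeats 400000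

universe u

open CategoryTheory CategoryTheory.Limits AlgebraicGeometry TopologicalSpace Opposite
open Groth.Agent.PnCoh.Finite (mapLin deltaLin)
open Groth.Agent.H23 Groth.Agent.H23.TrivBasic

attribute [local instance] Groth.Agent.H23.PicMul.clMonoid

noncomputable section

namespace Groth.Agent.GGDiv5

open Groth.Agent Groth.Agent.Nakai

variable {X : Scheme.{u}}

/-- Off the support of an ideal its inclusion is an isomorphism on stalks. -/
theorem isoOn_idealModι (I : X.IdealSheafData) :
    Snapper.IsoOn ⟨(I.support : Set X)ᶜ, I.support.isClosed.isOpen_compl⟩ (ClSub.idealModι I) := fun x hx => by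
  have hS : (ShortComplex.mk (ClSub.idealModι I) (ClSub.toSubscheme I) (kernel.condition _)).Exact :=
    ShortComplex.exact_of_f_is_kernel _ (kernelIsKernel _)
  haveI : Mono ((DerSch.stalkFunctor X x).map (ClSub.idealModι I)) := by
    unfold ClSub.idealModι; infer_instance
  haveI : Epi ((DerSch.stalkFunctor X x).map (ClSub.idealModι I)) := (hS.map (DerSch.stalkFunctor X x)).epi_f
    ((Snapper.notMem_support_iff.1 (not_not.2 (ParShLib.subsingleton_stalk_quotMod I hx))).eq_of_tgt _ _)
  exact isIso_of_mono_of_epi _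

/-- A surjection between finite-dimensional spaces lowers the dimension, strictly unless injective. -/
theorem finrank_step {k : Type*} [Field k] {V W : Type*} [AddCommGroup V] [Module k V] [AddCommGroup W] [Module k W]
    [Module.Finite k V] [Module.Finite k W] (g : V →ₗ[k] W) (hg : Function.Surjective g) {a b : ℕ}
    (ha : Module.finrank k V = a) (hb : Module.finrank k W = b) : b ≤ a ∧ (b = a → Function.Injective g) :=
  ⟨hb ▸ ha ▸ LinearMap.finrank_le_finrank_of_surjective hg, fun h =>
    (LinearMap.injective_iff_surjective_of_finrank_eq_finrank (ha.trans (h.symm.trans hb.symm))).2 hg⟩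

/-- Tensoring a morphism on the right. -/
def twMap (P : X.Modules) {A A' : X.Modules} (f : A ⟶ A') : CohB1.tensorMod A P ⟶ CohB1.tensorMod A' P :=
  (AmpleVan.tw P).map f

/-- Surjectivity on global sections is unaffected by an isomorphism. -/
theorem surjective_comp_iso {M N K : X.Modules} (g : M ⟶ N) (e : N ≅ K) (hg : Function.Surjective (g.app ⊤)) :
    Function.Surjective ((g ≫ e.hom).app ⊤) :=
  (ConcreteCategory.bijective_of_isIso (e.hom.app ⊤)).2.comp hg

variable {k : Type u} [Field k] [X.Over (Spec (CommRingCat.of k))] [IsProper (X ↘ Spec (CommRingCat.of k))]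

variable (k) in
include k in
theorem exists_vanishing (D : X.IdealSheafData) {L : X.Modules} (hL : PicF.IsInvertible L)
    (hamp : CohB1.IsAmple ((Scheme.Modules.pullback D.subschemeι).obj L)) :
    ∃ a, ∀ m, a ≤ m → ∀ q,
      Subsingleton (Coh.HH X (CohB1.tensorMod (ClSub.quotMod D) (CohB1.tensorPow L m)) (q + 1)) := by
  haveI := CurveCohLib.isNoetherian_of_proper (k := k) (X := X)
  let i := D.subschemeι
  let π := X ↘ Spec (CommRingCat.of k)
  letI : D.subscheme.Over (Spec (CommRingCat.of k)) := ⟨i ≫ π⟩
  haveI : IsProper (D.subscheme ↘ Spec (CommRingCat.of k)) := inferInstanceAs (IsProper (i ≫ π))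
  haveI : IsNoetherian D.subscheme :=
    { __ := LocallyOfFiniteType.isLocallyNoetherian i
      __ := QuasiCompact.compactSpace_of_compactSpace i }
  haveI : CompactSpace D.subscheme := inferInstance
  haveI : D.subscheme.IsSeparated := AmpleVan.isSeparated_of_proper (A := k)
  let O := Coh.structureModule D.subscheme
  have hO : Coh.IsCoh O := QCoh.isCoh_structureModule'
  obtain ⟨a, ha⟩ := AmpleVan.exists_vanishing (A := k) hamp hO
  refine ⟨a, fun m hm q => ?_⟩
  have hP := InvX.isInvertible_tensorPow hL m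
  obtain ⟨e⟩ := AmpleVan.FiniteSurj.nonempty_push_twist i O hP
  obtain ⟨e'⟩ := AmpleVan.RelVanish.pullback_tensorPow i L m
  have h1 := QCoh.subsingleton_HH_of_iso (AmpleVan.RelVanish.tensor_congr (Iso.refl O) e').some.symm (q + 1) (ha m hm q)
  obtain ⟨E⟩ := QCoh.HH_push_of_isAffineHom i
    (KFlatLib.isQCoh_tensor hO.1 (QCoh.isQCoh_pullback i (ProjUPX.isQCoh_of_isInvertible hP))) (q + 1)
  exact QCoh.subsingleton_HH_of_iso e.symm (q + 1) (@Equiv.subsingleton _ _ E.symm.toEquiv h1)

variable (k) in
include k in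
theorem step (D : X.IdealSheafData) (hD : PicF.IsInvertible (ClSub.idealMod D)) {L : X.Modules}
    (hL : PicF.IsInvertible L) (hLI : PicF.cl L * PicF.cl (ClSub.idealMod D) = 1) (m : ℕ)
    (hvan : Subsingleton (Coh.HH X (CohB1.tensorMod (ClSub.quotMod D) (CohB1.tensorPow L (m + 1))) 1)) :
    Module.finrank k (Coh.HH X (CohB1.tensorPow L (m + 1)) 1) ≤ Module.finrank k (Coh.HH X (CohB1.tensorPow L m) 1) ∧
      (Module.finrank k (Coh.HH X (CohB1.tensorPow L (m + 1)) 1) = Module.finrank k (Coh.HH X (CohB1.tensorPow L m) 1) →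
        Function.Injective
          (mapLin k ((AmpleVan.tw (CohB1.tensorPow L (m + 1))).map (ClSub.idealModι D)) 1)) := by
  haveI := CurveCohLib.isNoetherian_of_proper (k := k) (X := X)
  let S := ShortComplex.mk (ClSub.idealModι D) (ClSub.toSubscheme D) (kernel.condition _)
  have hS : S.ShortExact := DivisorExt.ideal_shortExact D
  let P := CohB1.tensorPow L (m + 1)
  have hP : PicF.IsInvertible P := InvX.isInvertible_tensorPow hL (m + 1)
  haveI := AmpleVan.isEquivalence_tw hP
  haveI : (AmpleVan.tw P).Additive := Functor.additive_of_preserves_binary_products _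
  have hTS := hS.map_of_exact (AmpleVan.tw P)
  have hsur : Function.Surjective (mapLin k ((AmpleVan.tw P).map (ClSub.idealModι D)) 1) :=
    surjective_f k hTS 1 hvan
  have u₁ : Nonempty (CohB1.tensorMod (ClSub.idealMod D) P ≅ CohB1.tensorPow L m) := by
    refine H23.PicMul.cl_eq_iff.1 ?_
    show PicF.cl (ClSub.idealMod D) * (PicF.cl (CohB1.tensorPow L m) * PicF.cl L) = _
    rw [mul_left_comm, mul_comm (PicF.cl (ClSub.idealMod D)), hLI, mul_one]
  obtain ⟨u₁⟩ := u₁
  have u₂ : CohB1.tensorMod (Coh.structureModule X) P ≅ P := CurveTensor.structureTensorIso P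
  haveI hf1 : Module.Finite k (Coh.HH X (CohB1.tensorMod (ClSub.idealMod D) P) 1) :=
    CurveCohLib.finite_HH (k := k) (AmpleVan.isCoh_invertible (InvX.isInvertible_tensorMod hD hP)) 1
  haveI hf2 : Module.Finite k (Coh.HH X (CohB1.tensorMod (Coh.structureModule X) P) 1) :=
    CurveCohLib.finite_HH (k := k) (AmpleVan.isCoh_invertible (InvX.isInvertible_tensorMod InvX.isInvertible_structureModule hP)) 1
  have e1 := (CurveCohLib.hhEquiv (k := k) u₁ 1).finrank_eq
  have e2 := (CurveCohLib.hhEquiv (k := k) u₂ 1).finrank_eq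
  exact finrank_step (V := Coh.HH X (CohB1.tensorMod (ClSub.idealMod D) P) 1)
    (W := Coh.HH X (CohB1.tensorMod (Coh.structureModule X) P) 1)
    (mapLin k ((AmpleVan.tw P).map (ClSub.idealModι D)) 1) hsur e1 e2

variable (k) in
include k in
theorem gg_of_injective (D : X.IdealSheafData) {L : X.Modules} (hL : PicF.IsInvertible L)
    (hLI : PicF.cl L * PicF.cl (ClSub.idealMod D) = 1) (m : ℕ)
    (hinj : Function.Injective (mapLin k ((AmpleVan.tw (CohB1.tensorPow L (m + 1))).map (ClSub.idealModι D)) 1))
    (hgg : Curv2.IsGloballyGenerated (CohB1.tensorMod (Coh.structureModule D.subscheme)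
      (CohB1.tensorPow ((Scheme.Modules.pullback D.subschemeι).obj L) (m + 1)))) :
    Curv2.IsGloballyGenerated (CohB1.tensorPow L (m + 1)) := by
  haveI := CurveCohLib.isNoetherian_of_proper (k := k) (X := X)
  obtain ⟨u⟩ : Nonempty (Coh.structureModule X ≅ CohB1.tensorMod (ClSub.idealMod D) L) :=
    H23.PicMul.cl_eq_iff.1 (show 1 = PicF.cl (ClSub.idealMod D) * PicF.cl L by rw [mul_comm, hLI])
  let i := D.subschemeι
  let O := Coh.structureModule D.subscheme
  let S := ShortComplex.mk (ClSub.idealModι D) (ClSub.toSubscheme D) (kernel.condition _)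
  have hS : S.ShortExact := DivisorExt.ideal_shortExact D
  let P := CohB1.tensorPow L (m + 1)
  have hP : PicF.IsInvertible P := InvX.isInvertible_tensorPow hL (m + 1)
  haveI := AmpleVan.isEquivalence_tw hP
  haveI : (AmpleVan.tw P).Additive := Functor.additive_of_preserves_binary_products _
  have hTS := hS.map_of_exact (AmpleVan.tw P)
  let B := CohB1.tensorMod (Coh.structureModule X) P
  have hB : PicF.IsInvertible B := InvX.isInvertible_tensorMod InvX.isInvertible_structureModule hP
  obtain ⟨e⟩ : Nonempty (CohB1.tensorMod (ClSub.quotMod D) P ≅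
      (Scheme.Modules.pushforward i).obj (CohB1.tensorMod O ((Scheme.Modules.pullback i).obj P))) :=
    AmpleVan.FiniteSurj.nonempty_push_twist i O hP
  let K := CohB1.tensorMod O ((Scheme.Modules.pullback i).obj P)
  let g : B ⟶ CohB1.tensorMod (ClSub.quotMod D) P := twMap P (ClSub.toSubscheme D)
  let φ : B ⟶ (Scheme.Modules.pushforward i).obj K := g ≫ e.hom
  have hg : Function.Surjective ((twMap P (ClSub.toSubscheme D)).app ⊤) :=
    app_top_surjective_of_injective (k := k) (S := S.map (AmpleVan.tw P)) hTS hinj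
  have hφ : Function.Surjective (φ.app ⊤) := surjective_comp_iso g e hg
  have hK : PicF.IsInvertible K :=
    InvX.isInvertible_tensorMod InvX.isInvertible_structureModule (PicClLib.isInvertible_pullback i hP)
  have hKg : Curv2.IsGloballyGenerated K := by
    obtain ⟨e'⟩ := AmpleVan.RelVanish.pullback_tensorPow i L (m + 1)
    exact AmpleX.isGloballyGenerated_of_iso (AmpleVan.RelVanish.tensor_congr (Iso.refl O) e').some.symm hgg
  let ψ := ((Scheme.Modules.pullbackPushforwardAdjunction i).homEquiv B K).symm φ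
  have hψ : φ = (Scheme.Modules.pullbackPushforwardAdjunction i).unit.app B ≫
      (Scheme.Modules.pushforward i).map ψ :=
    (((Scheme.Modules.pullbackPushforwardAdjunction i).homEquiv B K).apply_symm_apply φ).symm.trans
      (Adjunction.homEquiv_unit _ _ _ _)
  refine InvX.isGloballyGenerated_of_generated (AVAmple.generatedBy_of_locus (L := P) (fun t : Γ(P, ⊤) => t) fun x => ?_)
  by_cases hx : x ∈ (D.support : Set X)
  · obtain ⟨z, hz⟩ : ∃ z, i z = x := by
      rw [← Scheme.IdealSheafData.range_subschemeι] at hx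
      exact hx
    obtain ⟨σ, hσ⟩ := GenLocusGG.exists_mem_locus hK hKg z
    obtain ⟨t, ht⟩ := hφ σ
    have hσ' : σ = (show Γ(K, ⊤) from ψ.app (i ⁻¹ᵁ ⊤) (InvX.pullElt i (U := ⊤) t)) :=
      ht.symm.trans (congrArg (fun q => Scheme.Modules.Hom.app q ⊤ t) hψ)
    rw [hσ'] at hσ
    have hxt : x ∈ locus t := hz ▸ mem_locus_of_map i hB hK ψ t hσ
    let c₀ : B ≅ P := CurveTensor.structureTensorIso P
    refine ⟨c₀.hom.app ⊤ t, ?_⟩
    obtain ⟨W, hxW, hW⟩ := mem_locus_iff.1 hxt
    refine mem_locus_iff.2 ⟨W, hxW, ?_⟩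
    exact (AModX.app_res c₀.hom (le_top : W ≤ ⊤) t) ▸ hW.map_iso c₀
  · let w : CohB1.tensorMod (Coh.structureModule X) L ≅ L := CurveTensor.structureTensorIso L
    let f : Coh.structureModule X ⟶ L := u.hom ≫ (AmpleVan.tw L).map (ClSub.idealModι D) ≫ w.hom
    refine ⟨InvX.one (InvX.powHom f (m + 1)), ?_⟩
    show x ∈ CohB1.genLocus _ (InvX.ofSect (InvX.one _))
    rw [AVAmple.ofSect_one, InvX.genLocus_powHom hL]
    let U : X.Opens := ⟨(D.support : Set X)ᶜ, D.support.isClosed.isOpen_compl⟩
    haveI := CohGenIso5.isIso_restrict_of_stalk U ((AmpleVan.tw L).map (ClSub.idealModι D)) fun y hy => by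
      haveI := (isoOn_idealModι D).tensor L y hy
      exact (ConcreteCategory.isIso_iff_bijective _).1 inferInstance
    have hf : IsIso ((Scheme.Modules.restrictFunctor U.ι).map f) := by
      simp only [f, Functor.map_comp]
      infer_instance
    exact le_sSup (α := X.Opens) (show U ∈ {U : X.Opens | IsIso ((Scheme.Modules.restrictFunctor U.ι).map f)} from hf) (show x ∈ U from hx)


variable (k) in
include k in
theorem eventually_gg (D : X.IdealSheafData) (hD : PicF.IsInvertible (ClSub.idealMod D)) {L : X.Modules}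
    (hLD : ClSub.IsInverseOf L (ClSub.idealMod D))
    (hamp : CohB1.IsAmple ((Scheme.Modules.pullback D.subschemeι).obj L)) :
    ∀ᶠ m : ℕ in Filter.atTop, Curv2.IsGloballyGenerated (CohB1.tensorPow L m) := by
  haveI := CurveCohLib.isNoetherian_of_proper (k := k) (X := X)
  obtain ⟨hL, hLI⟩ := CurveOnSurf.isInvertible_of_inverse hD hLD
  haveI : IsNoetherian D.subscheme :=
    { __ := LocallyOfFiniteType.isLocallyNoetherian D.subschemeι
      __ := QuasiCompact.compactSpace_of_compactSpace D.subschemeι }
  haveI : D.subscheme.IsSeparated := by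
    letI : D.subscheme.Over (Spec (CommRingCat.of k)) := ⟨D.subschemeι ≫ (X ↘ Spec (CommRingCat.of k))⟩
    haveI : IsProper (D.subscheme ↘ Spec (CommRingCat.of k)) :=
      inferInstanceAs (IsProper (D.subschemeι ≫ (X ↘ Spec (CommRingCat.of k))))
    exact AmpleVan.isSeparated_of_proper (A := k)
  obtain ⟨a, ha⟩ := exists_vanishing k D hL hamp
  have hO : Coh.IsCoh (Coh.structureModule D.subscheme) := QCoh.isCoh_structureModule'
  obtain ⟨c, hc⟩ := AmpleX.eventually_isGloballyGenerated hamp (F := Coh.structureModule D.subscheme) hO.1 hO.2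
  let h : ℕ → ℕ := fun m => Module.finrank k (Coh.HH X (CohB1.tensorPow L m) 1)
  have hstep : ∀ m, a ≤ m + 1 → _ := fun m hm => step k D hD hL hLI m (ha (m + 1) hm 0)
  obtain ⟨j₀, hj₀⟩ : ∃ j, ∀ i, h (a + j) ≤ h (a + i) :=
    ⟨Function.argmin (fun j => h (a + j)), fun i => Function.argmin_le (fun j => h (a + j)) i⟩
  have hconst : ∀ m, a + j₀ ≤ m → h m = h (a + j₀) := fun m hm => by
    induction m, hm using Nat.le_induction with
    | base => rfl
    | succ m hm ih =>
      refine le_antisymm (ih ▸ (hstep m (by omega)).1) ?_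
      have := hj₀ (m + 1 - a)
      rwa [show a + (m + 1 - a) = m + 1 by omega] at this
  refine Filter.eventually_atTop.2 ⟨a + j₀ + c + 1, fun M hM => ?_⟩
  obtain ⟨m, rfl⟩ : ∃ m, M = m + 1 := ⟨M - 1, by omega⟩
  exact gg_of_injective k D hL hLI m
    ((hstep m (by omega)).2 ((hconst (m + 1) (by omega)).trans (hconst m (by omega)).symm)) (hc (m + 1) (by omega))

end Groth.Agent.GGDiv5
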